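import Mathlib
import Cfsg.Agent.Helper19.TCR.WG
import Cfsg.Agent.Helper19.L37P.Facts

/-! An abstract presentation `PG37` on three letters `x, y, y⁻¹` (it presents `L₃(7)`) with
`|PG37| ≤ 1876896`, by a coset enumeration over `⟨y⟩` (index `98784`, `y ^ 19 = 1`) checked by the
reflective Todd–Coxeter checker. -/

set_option autoImplicit false
set_option linter.all false

namespace Cfsg.Agent.Helper19.L37

open Cfsg.Agent.Helper19.TCS

abbrev PG37 : Type := WG 3 L37P.rels

def gq (l : ℕ) : PG37 := wgc 3 L37P.rels l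

theorem q_lt : ∀ w ∈ L37P.rels, ∀ l ∈ w, l < 3 := by decide

theorem prodw_replicate'' {Γ : Type*} [Group Γ] (f : ℕ → Γ) (k : ℕ) (u : List ℕ) :
    prodw f (List.replicate k u).flatten = prodw f u ^ k := by
  induction k with
  | zero => simp [prodw]
  | succ k ih =>
    rw [List.replicate_succ, List.flatten_cons, prodw_append, ih, pow_succ]

/-- the generator `y`. -/
def yq : PG37 := prodw gq [1]

theorem yq_pow : yq ^ 19 = 1 := by
  have h : prodw gq ((List.replicate 19 [1]).flatten) = 1 :=
    wg_rels_one 3 L37P.rels _ (by decide)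
  rwa [prodw_replicate''] at h

theorem card_zpowers_yq : Nat.card (Subgroup.zpowers yq) ≤ 19 := by
  rw [Nat.card_zpowers]
  exact orderOf_le_of_pow_eq_one (by norm_num) yq_pow

theorem gq_inv : ∀ l, l < 3 → gq (L37P.invF l) = (gq l)⁻¹ := by
  have h12 : gq 2 * gq 1 = 1 := by
    have := wg_rels_one 3 L37P.rels [1, 2] (by decide)
    simpa [prodw, gq] using this
  intro l hl
  interval_cases l
  · exact (wgc_inv 3 L37P.rels (l := 0) (by decide)).symm
  · show gq 2 = (gq 1)⁻¹
    exact eq_inv_of_mul_eq_one_left h12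
  · show gq 1 = (gq 2)⁻¹
    exact eq_inv_of_mul_eq_one_right h12

theorem q_closed :
    Sem 98784 3 L37P.invF L37P.nrots L37P.rotsF L37P.subsF (Subgroup.zpowers yq) gq ∧
      Closed 98784 3 L37P.md L37P.ent L37P.parF L37P.pletF (Subgroup.zpowers yq) gq := by
  apply L37P.closed
  · exact gq_inv
  · exact wg_rels_one 3 L37P.rels
  · intro w hw
    simp only [L37P.subs, List.mem_cons, List.not_mem_nil, or_false] at hw
    subst hw
    exact Subgroup.mem_zpowers yq

theorem card_PG37_le : Nat.card PG37 ≤ 1876896 := by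
  obtain ⟨S, hcl⟩ := q_closed
  have h1 := card_le S (wg_gen 3 L37P.rels) hcl
  calc Nat.card PG37 ≤ 98784 * Nat.card (Subgroup.zpowers yq) := h1
    _ ≤ 98784 * 19 := Nat.mul_le_mul_left _ card_zpowers_yq
    _ = 1876896 := by norm_num

theorem finPG37 : Finite PG37 := by
  obtain ⟨S, hcl⟩ := q_closed
  have hfin : Finite (PG37 ⧸ Subgroup.zpowers yq) := finite_quot S (wg_gen 3 L37P.rels) hcl
  have hpos : 0 < Nat.card (Subgroup.zpowers yq) := by
    rw [Nat.card_zpowers]
    exact orderOf_pos_iff.mpr (isOfFinOrder_iff_pow_eq_one.mpr ⟨19, by norm_num, yq_pow⟩)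
  have hidx : (Subgroup.zpowers yq).index ≠ 0 := by
    rw [Subgroup.index_eq_card]; exact Nat.card_pos.ne'
  have hcard : Nat.card PG37 ≠ 0 := by
    rw [← Subgroup.card_mul_index (Subgroup.zpowers yq)]
    exact Nat.mul_ne_zero hpos.ne' hidx
  exact Nat.finite_of_card_ne_zero hcard

end Cfsg.Agent.Helper19.L37
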