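import Mathlib
import Cfsg.Agent.Helper19.L37.Pres
import Cfsg.Agent.Helper2.Transvec
import Cfsg.Agent.S0243

/-! The isomorphism `PG37 ≃* PSL₃(𝔽₇)`: explicit matrices in `SL₃(ZMod 7)` for the letters, relators
(scalar matrices) checked by `decide`, surjectivity because every elementary transvection is an
explicit word, and the order count `|PG37| ≤ 1876896 = |PSL₃(7)|`. -/

set_option autoImplicit false
set_option linter.all false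
set_option maxRecDepth 1000000
set_option maxHeartbeats 0

namespace Cfsg.Agent.Helper19.L37

open Cfsg.Agent.Helper19.TCS Matrix

instance fact7 : Fact (Nat.Prime 7) := ⟨by norm_num⟩

abbrev M3 : Type := Matrix (Fin 3) (Fin 3) (ZMod 7)
abbrev SL37 : Type := Matrix.SpecialLinearGroup (Fin 3) (ZMod 7)
abbrev PSL37 : Type := Matrix.ProjectiveSpecialLinearGroup (Fin 3) (ZMod 7)

def mX : M3 := !![3, 2, 6; 0, 0, 5; 0, 6, 0]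
def mY : M3 := !![5, 5, 2; 1, 6, 6; 3, 0, 6]
def mZ : M3 := !![1, 5, 4; 5, 3, 0; 3, 1, 4]

/-- the matrix of a letter. -/
def mm : ℕ → M3
  | 0 => mX
  | 1 => mY
  | _ => mZ

/-- product of the matrices along a word, same convention as `prodw`. -/
def prodM : List ℕ → M3
  | [] => 1
  | l :: w => prodM w * mm l

/-- scalar matrices `1, 2, 4`. -/
def isScal (A : M3) : Bool :=
  decide (A = 1) || decide (A = Matrix.scalar (Fin 3) (2 : ZMod 7)) ||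
    decide (A = Matrix.scalar (Fin 3) (4 : ZMod 7))

theorem relsM : ∀ w ∈ L37P.rels, isScal (prodM w) = true := by decide +kernel

def twL : List (List ℕ) := [[], [], [], [], [], [], [], [], [0, 2, 2, 0, 2, 0, 1, 0, 1, 0, 2, 0, 1, 1, 0, 2, 0, 1, 1, 0, 2, 0, 1, 1, 0, 1, 1, 0, 2, 2, 2, 0, 1, 1, 0, 1, 1, 0, 2, 2, 2], [0, 1, 0, 1, 1, 1, 0, 1, 0, 2, 2, 2, 2, 2, 0, 2, 0, 0, 0], [2, 2, 2, 2, 0, 2, 2, 2, 0, 1, 0, 1, 0, 1, 1, 1, 1, 0, 1, 1, 0, 1, 1, 0, 2, 2, 2, 0, 1, 1, 0, 1, 1, 0, 2, 2, 2], [2, 2, 2, 0, 1, 0, 1, 0, 1, 1, 1, 1, 0, 1, 1, 1, 1], [0, 1, 0, 1, 1, 1, 1, 1, 0, 2, 0, 2, 2, 2, 0, 2, 0, 0, 1, 1, 0, 1, 1, 0, 2, 2, 2, 0, 1, 1, 0, 1, 1, 0, 2, 2, 2], [0, 2, 2, 0, 2, 2, 2, 2, 0, 1, 0, 2, 2, 2, 0, 1, 0, 2, 2, 2, 2], [], [1, 0, 1, 1, 1, 0, 1, 0, 2, 2, 2, 2, 2, 0, 2, 0, 1, 1, 0, 1, 1, 0, 2, 2, 2, 0, 1, 1, 0, 1, 1, 0, 2, 2, 2], [0, 2, 2,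 2, 0, 1, 0, 1, 0, 1, 1, 1, 1, 0, 1, 1, 1, 1, 0, 0, 1, 1, 0, 1, 1, 0, 2, 2, 2, 0, 1, 1, 0, 1, 1, 0, 2, 2, 2], [1, 0, 1, 0, 2, 0, 1, 1, 0, 2, 0, 1, 1, 0, 2, 0, 1, 1, 1, 1, 0, 0], [2, 2, 2, 0, 2, 0, 1, 0, 2, 2, 0, 1, 0, 2, 2, 0, 1, 0, 2, 2, 0, 0], [0, 2, 2, 2, 2, 0, 2, 2, 2, 0, 1, 0, 1, 0, 1, 1, 1, 1, 0, 0, 0], [1, 0, 1, 1, 1, 1, 1, 0, 2, 0, 2, 2, 2, 0, 2], [], [1, 0, 1, 1, 0, 2, 0, 1, 1, 0, 2, 0, 1, 1, 0, 2, 2], [1, 1, 0, 2, 2, 0, 2], [1, 0, 1, 1, 0, 2, 0, 1, 1, 0, 2, 2, 0, 1, 1, 0, 1, 1, 0, 2, 2, 2, 0, 1, 1, 0, 1, 1, 0, 2, 2, 2], [1, 1, 0, 2, 2, 0, 1, 0, 2, 2, 0, 2], [1, 0, 1, 1, 0, 2, 2, 0, 0], [1, 1, 0, 2, 2, 0, 1, 0, 2, 2, 0, 1, 0, 2, 2, 0, 2], [], [], [], [], [], [], [], [], [2, 0, 2, 2, 0, 2, 2, 2, 2, 0, 1, 1, 1, 1, 0, 1, 1, 1, 0, 0], [0, 1, 1, 1, 1, 0, 1, 0, 2, 2, 2, 2, 0, 2, 2, 2, 0, 1, 0, 2], [1, 1, 1, 1, 1, 1, 1, 1, 1,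 0, 2, 2, 2, 2, 2, 0, 2, 0, 0], [1, 0, 1, 1, 1, 1, 1, 0, 2, 2, 2, 2, 2, 2, 2, 2, 2], [1, 0, 2, 0, 1, 1, 1, 0, 1, 1, 1, 1, 0, 2, 0, 2, 2, 2, 2, 0], [2, 2, 2, 0, 2, 2, 2, 2, 0, 1, 1, 1, 1, 0, 1, 1, 0, 1, 0, 0], [], [0, 2, 2, 0, 2, 0, 1, 0, 1, 0, 1, 1, 1, 1, 1, 1, 1, 0, 1, 0, 1, 0, 1, 1, 0, 1, 1, 0, 2, 2, 2, 0, 1, 1, 0, 1, 1, 0, 2, 2, 2], [1, 1, 0, 1, 0, 2, 2, 0, 1, 1, 1, 0, 1, 0, 2, 2, 2, 0], [0, 2, 2, 0, 1, 1, 0, 2, 2, 0, 2, 2, 2, 0, 1, 1, 1, 0, 1, 1], [2, 2, 0, 2, 2, 2, 0, 1, 1, 1, 0, 1, 1, 0, 2, 2, 0, 1, 1, 0], [0, 1, 1, 1, 0, 2, 0, 2, 2, 2, 0, 1, 1, 0, 2, 0, 2, 2], [0, 2, 2, 2, 2, 2, 0, 1, 0, 1, 0, 1, 1, 0, 1, 1, 1, 0, 1, 0, 1], [], [0, 1, 1, 0, 1, 0, 2, 2, 2, 2, 2, 2, 2, 0, 1, 1, 0, 2, 2, 0, 0, 1, 1, 0, 1, 1, 0, 2, 2, 2, 0, 1, 1, 0, 1, 1, 0, 2, 2, 2], [2, 2, 0, 2, 2, 2, 2, 0, 1, 0, 1, 1, 0, 1, 1, 0, 1, 1, 0, 1, 1, 0, 2, 2, 2,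 0, 1, 1, 0, 1, 1, 0, 2, 2, 2], [1, 0, 1, 0, 2, 2, 2, 2, 0, 1, 0, 1, 1, 0, 2, 0, 2, 0, 0], [1, 0, 1, 0, 2, 2, 0, 2, 0, 1, 1, 1, 1, 0, 2, 0, 2, 0, 1, 1, 0, 1, 1, 0, 2, 2, 2, 0, 1, 1, 0, 1, 1, 0, 2, 2, 2], [2, 2, 0, 2, 2, 0, 2, 0, 1, 1, 1, 1, 0, 1, 1], [0, 1, 1, 0, 2, 2, 0, 1, 1, 1, 1, 1, 1, 1, 0, 2, 0, 2, 2, 0, 0, 0], [], [], [], [], [], [], []]

def twW (i j : Fin 3) (c : ZMod 7) : List ℕ := twL.getD (21 * i.val + 7 * j.val + c.val) []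

theorem tw_ok : ∀ i j : Fin 3, i ≠ j → ∀ c : ZMod 7, prodM (twW i j c) = Matrix.transvection i j c := by
  decide +kernel

theorem tw_lt : ∀ (i j : Fin 3) (c : ZMod 7), ∀ l ∈ twW i j c, l < 3 := by decide +kernel

theorem mm_det : ∀ l, l < 3 → (mm l).det = 1 := by
  intro l hl
  rw [Matrix.det_fin_three]
  interval_cases l <;> decide

/-- the `SL₃(7)` matrix of a letter. -/
def gmS (l : ℕ) : SL37 := if h : l < 3 then ⟨mm l, mm_det l h⟩ else 1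

theorem gmS_val {l : ℕ} (h : l < 3) : ((gmS l : SL37) : M3) = mm l := by
  simp [gmS, h]

theorem coe_prodw (w : List ℕ) (hw : ∀ l ∈ w, l < 3) : ((prodw gmS w : SL37) : M3) = prodM w := by
  induction w with
  | nil => rfl
  | cons l w ih =>
    rw [prodw, prodM, ← ih (fun x hx => hw x (List.mem_cons_of_mem _ hx)),
      ← gmS_val (hw l (List.mem_cons_self ..))]
    rfl

theorem mem_center_of_isScal {A : SL37} (h : isScal (A : M3) = true) :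
    A ∈ Subgroup.center SL37 := by
  rw [Matrix.SpecialLinearGroup.mem_center_iff]
  unfold isScal at h
  rw [Bool.or_eq_true, Bool.or_eq_true, decide_eq_true_eq, decide_eq_true_eq,
    decide_eq_true_eq] at h
  rcases h with (h | h) | h
  · exact ⟨1, by simp, by rw [h]; simp⟩
  · exact ⟨2, by decide, h.symm⟩
  · exact ⟨4, by decide, h.symm⟩

/-- the `PSL₃(7)` element of a letter. -/
def gmP (l : ℕ) : PSL37 := QuotientGroup.mk' (Subgroup.center SL37) (gmS l)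

theorem prodw_gmP (w : List ℕ) :
    prodw gmP w = QuotientGroup.mk' (Subgroup.center SL37) (prodw gmS w) := by
  induction w with
  | nil => simp [prodw]
  | cons l w ih => rw [prodw, prodw, map_mul, ih]; rfl

theorem relsP : ∀ w ∈ L37P.rels, prodw gmP w = 1 := by
  intro w hw
  rw [prodw_gmP, QuotientGroup.mk'_apply, QuotientGroup.eq_one_iff]
  apply mem_center_of_isScal
  rw [coe_prodw w (q_lt w hw)]
  exact relsM w hw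

/-- the homomorphism from the presented group to `PSL₃(7)`. -/
def beta : PG37 →* PSL37 := wgHom gmP q_lt relsP

theorem mk_mem_range (A : SL37) :
    QuotientGroup.mk' (Subgroup.center SL37) A ∈ beta.range := by
  refine Cfsg.Agent.Helper2.SL_transvection_induction
    (fun A => QuotientGroup.mk' (Subgroup.center SL37) A ∈ beta.range) ?_ ?_ A
  · intro i j hij c
    have hlt := tw_lt i j c
    refine ⟨prodw gq (twW i j c), ?_⟩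
    unfold beta gq
    rw [wgHom_prodw gmP q_lt relsP _ hlt, prodw_gmP]
    congr 1
    apply Subtype.ext
    rw [coe_prodw _ hlt, tw_ok i j hij c]
    rfl
  · intro A B hA hB
    rw [map_mul]
    exact beta.range.mul_mem hA hB

theorem beta_surjective : Function.Surjective beta := by
  intro x
  obtain ⟨A, rfl⟩ := QuotientGroup.mk'_surjective (Subgroup.center SL37) x
  exact mk_mem_range A

theorem card_PSL37 : Nat.card PSL37 = 1876896 := by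
  have h := Cfsg.Agent.S0243.result (F := ZMod 7) (q := 7) (by simp) 3 (by norm_num)
  have h2 : (∏ i : Fin 3, (7 ^ 3 - 7 ^ (i : ℕ))) = 33784128 := by
    simp [Fin.prod_univ_three]
  rw [h2] at h
  have h3 : Nat.gcd 3 (7 - 1) = 3 := by decide
  rw [h3] at h
  show Nat.card (Matrix.ProjectiveSpecialLinearGroup (Fin 3) (ZMod 7)) = 1876896
  omega

theorem card_PG37 : Nat.card PG37 = 1876896 := by
  haveI := finPG37
  have h := Nat.card_le_card_of_surjective _ beta_surjective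
  rw [card_PSL37] at h
  exact le_antisymm card_PG37_le h

theorem beta_bijective : Function.Bijective beta := by
  haveI := finPG37
  refine (Nat.bijective_iff_surjective_and_card beta).mpr ⟨beta_surjective, ?_⟩
  rw [card_PG37, card_PSL37]

/-- `PG37 ≃* PSL₃(7)`. -/
noncomputable def equivP : PG37 ≃* PSL37 := MulEquiv.ofBijective beta beta_bijective

end Cfsg.Agent.Helper19.L37
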