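import Mathlib
import Cfsg.Agent.Helper19.L37.Mat
import Cfsg.Agent.Helper17.ONOrd.Simple
import Cfsg.Agent.S0249

/-! The subgroup `⟨ac, abcdef⟩` of the presented O'Nan group is isomorphic to `L₃(7)` and has
index 2 in the point stabiliser `Hs = ⟨a, …, f⟩`. -/

set_option autoImplicit false
set_option linter.all false
set_option maxRecDepth 100000

noncomputable section

namespace Cfsg.Agent.Helper19.L37

open Cfsg.Spor Cfsg.Agent.Helper17 Cfsg.Agent.Helper17.ONTC Cfsg.Agent.Helper17.ONOrd
open Cfsg.Agent.Helper19.TCS (WG wgc wgHom wgHom_wgc wgHom_prodw wgHom_range wg_rels_one)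

/-! ### simplicity of `L₃(7)` -/

instance simple_PSL37 : IsSimpleGroup PSL37 := Cfsg.Agent.S0249.result 3 le_rfl

instance simple_PG37 : IsSimpleGroup PG37 := equivP.isSimpleGroup

/-! ### the homomorphism to the O'Nan group -/

/-- the O'Nan word of a letter. -/
def expand : ℕ → List ℕ
  | 0 => [2, 4]
  | 1 => [2, 3, 4, 5, 6, 7]
  | 2 => [7, 6, 5, 4, 3, 2]
  | _ => []

/-- the O'Nan group element of a letter. -/
def fH (l : ℕ) : G := ONTC.prodw (expand l)

theorem prodw_fH (w : List ℕ) : TCS.prodw fH w = ONTC.prodw (w.flatMap expand) := by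
  induction w with
  | nil => rfl
  | cons l w ih =>
    rw [TCS.prodw, List.flatMap_cons, ONOrd.prodw_append, ih]
    rfl

theorem relsH_chk : ∀ w ∈ L37P.rels, chkBase (w.flatMap expand) = true := by decide +kernel

theorem relsH : ∀ w ∈ L37P.rels, TCS.prodw fH w = 1 := by
  intro w hw
  rw [prodw_fH]
  exact prodw_eq_one (relsH_chk w hw)

/-- the homomorphism `PG37 →* O'N`. -/
def alpha : PG37 →* G := wgHom fH q_lt relsH

theorem alpha_gq {l : ℕ} (hl : l < 3) : alpha (gq l) = fH l := wgHom_wgc fH q_lt relsH hl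

theorem fH_mem : ∀ l, l < 3 → fH l ∈ Hs := by
  intro l hl
  rw [← stab0]
  have hlt : ∀ x ∈ expand l, x < nl := by interval_cases l <;> decide
  unfold fH
  rw [phi_prodw_apply _ hlt]
  interval_cases l <;> decide +kernel

theorem range_le : alpha.range ≤ Hs := by
  unfold alpha
  rw [wgHom_range fH q_lt relsH, Subgroup.closure_le]
  rintro _ ⟨l, hl, rfl⟩
  exact fH_mem l hl

theorem alpha_injective : Function.Injective alpha := by
  rw [← MonoidHom.ker_eq_bot_iff]
  rcases (MonoidHom.normal_ker alpha).eq_bot_or_eq_top with h | h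
  · exact h
  · exfalso
    have h1 : gq 0 ∈ alpha.ker := by rw [h]; trivial
    rw [MonoidHom.mem_ker, alpha_gq (by norm_num)] at h1
    have h2 : phi (fH 0) 1 = 1 := by
      have h3 : phi 1 = 1 := map_one phi
      rw [h1, h3]; rfl
    unfold fH at h2
    rw [phi_prodw_apply _ (by decide)] at h2
    revert h2
    decide +kernel

theorem card_range : Nat.card alpha.range = 1876896 := by
  rw [← Nat.card_congr (MonoidHom.ofInjective alpha_injective).toEquiv, card_PG37]

theorem card_Hs : Nat.card Hs = 3753792 := by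
  have h1 := card_G_eq
  rw [card_G] at h1
  omega

/-- the subgroup of index 2 in the point stabiliser. -/
def Nsub : Subgroup ↥Hs := alpha.range.subgroupOf Hs

theorem index_Nsub : Nsub.index = 2 := by
  haveI := finG
  have h1 := Subgroup.card_mul_index Nsub
  have h2 : Nat.card Nsub = 1876896 := by
    rw [← card_range]
    exact Nat.card_congr (Subgroup.subgroupOfEquivOfLe range_le).toEquiv
  rw [h2, card_Hs] at h1
  omega

instance normal_Nsub : Nsub.Normal := Subgroup.normal_of_index_eq_two index_Nsub

/-- `Nsub ≃* L₃(7)`. -/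
def equivN : Nsub ≃* PSL37 :=
  ((Subgroup.subgroupOfEquivOfLe range_le).trans (MonoidHom.ofInjective alpha_injective).symm).trans
    equivP

end Cfsg.Agent.Helper19.L37
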